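import Cfsg.Agent.Lib.Cert.L34.Tw
import Cfsg.Agent.Lib.Cert.Lin

set_option autoImplicit false
set_option maxRecDepth 100000

namespace Cfsg.Agent.Ct.L34

open Cfsg.Agent.PC

open Cfsg.Agent.Fi Cfsg.Agent.Ct
def Tf_t : TN := (TN.leaf (nat_lit 0x6e7c4f29b58b300b05203411129795849a9716ba863a250188201a64b53c0d14613298e825181738b252df469a114244c9900708e117b92d9c8aa351835a080104e973674945e832e050298438823))
noncomputable def Tf (i : ℕ) : ℕ := get9 Tf_t (nat_lit 5) (nat_lit 31) i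
noncomputable def T (j c : ℕ) : ℕ := Tf (Nat.add (Nat.mul j (nat_lit 21)) c)
noncomputable def p0 : ℕ → ℕ := permE T inv (nat_lit 21) (nat_lit 6)
theorem pp0 : Nat.beq (rng p0 (nat_lit 0) (nat_lit 21)) (nat_lit 0) = true := by decide +kernel
theorem hp : ∀ i < 21, p0 i = 0 := by
  have h := zero_lt_zero p0
  have h := zero_lt_add (a := (nat_lit 0)) (n := (nat_lit 21)) (b := (nat_lit 21)) h pp0 rfl
  exact h
abbrev pt : ℕ → Fin 21 := (finLab 20).pt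
noncomputable def pf : ℕ → Equiv.Perm (Fin 21) := (finLab 20).fam T inv
theorem pr : Reps pt 21 pf T 6 ∧ InvOK pf inv 6 := (finLab 20).reps_fam (by decide +kernel) hp
noncomputable def x1 : ℕ → ℕ := relF T rels
theorem yy0 : Nat.beq (rng x1 (nat_lit 0) (nat_lit 21)) (nat_lit 0) = true := by decide +kernel
theorem hy : ∀ i < 21, x1 i = 0 := by
  have h := zero_lt_zero x1
  have h := zero_lt_add (a := (nat_lit 0)) (n := (nat_lit 21)) (b := (nat_lit 21)) h yy0 rfl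
  exact h
theorem rl0 : ∀ w ∈ rels, ev pf w = 1 := rel_of_tab (finLab 20).surj pr.1 (by decide +kernel) hy
abbrev P : Type := ↥(gen pf 6)
noncomputable def al : ℕ → P := PC.sub (gen pf 6) pf
theorem rp : Reps pt 21 al T 6 := (pr.1.mono (by decide)).sub le_rfl
theorem top : gen al 6 = ⊤ := gen_sub_top rfl
def W0_t : TL := (TL.node (TL.node (TL.node (TL.leaf [nat_lit 0, nat_lit 5, nat_lit 4, nat_lit 5]) (TL.leaf [nat_lit 4, nat_lit 1, nat_lit 5, nat_lit 4, nat_lit 2, nat_lit 1, nat_lit 5, nat_lit 4])) (TL.leaf [nat_lit 5, nat_lit 4, nat_lit 5, nat_lit 2, nat_lit 4, nat_lit 2, nat_lit 1, nat_lit 4])) (TL.node (TL.leaf [nat_lit 1, nat_lit 4, nat_lit 0]) (TL.leaf [nat_lit 0, nat_lit 3, nat_lit 4, nat_lit 5, nat_lit 4, nat_lit 2, nat_lit 4, nat_lit 0, nat_lit 0, nat_lit 4])))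
noncomputable def W0 (i : ℕ) : List ℕ := TL.get W0_t i
def Q0f_t : TN := (TN.leaf (nat_lit 0x4014d069c6b93c538b994525015a1c76aa129d1ec4902311a2502911495ec8128b918336b8e21808872d26931b12c2677aa831040992cd47310f9b60a19624088e0))
noncomputable def Q0f (i : ℕ) : ℕ := get9 Q0f_t (nat_lit 5) (nat_lit 31) i
noncomputable def Q0 (j c : ℕ) : ℕ := Q0f (Nat.add (Nat.mul j (nat_lit 21)) c)
noncomputable def q0 (j : ℕ) : P := ev al (W0 j)
noncomputable def c0 : ℕ → ℕ := tabE T Q0 W0 (nat_lit 5)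
theorem cc0 : Nat.beq (rng c0 (nat_lit 0) (nat_lit 21)) (nat_lit 0) = true := by decide +kernel
theorem hc : ∀ i < 21, c0 i = 0 := by
  have h := zero_lt_zero c0
  have h := zero_lt_add (a := (nat_lit 0)) (n := (nat_lit 21)) (b := (nat_lit 21)) h cc0 rfl
  exact h
def CV0_t : TN := (TN.leaf (nat_lit 0x1b31862365861341a6d18127216e3701))
noncomputable def CV0 (i : ℕ) : ℕ := get9 CV0_t (nat_lit 6) (nat_lit 63) i
def CV1_t : TN := (TN.leaf (nat_lit 0x11a226d88186526a06e34e38cb681600))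
noncomputable def CV1 (i : ℕ) : ℕ := get9 CV1_t (nat_lit 6) (nat_lit 63) i
def CV2_t : TN := (TN.leaf (nat_lit 0x981965061044a498620020681000000))
noncomputable def CV2 (i : ℕ) : ℕ := get9 CV2_t (nat_lit 6) (nat_lit 63) i
def CV3_t : TN := (TN.leaf (nat_lit 0x8000040020))
noncomputable def CV3 (i : ℕ) : ℕ := get9 CV3_t (nat_lit 5) (nat_lit 31) i
noncomputable def l0 : Lev := ⟨(nat_lit 0), (nat_lit 21), (nat_lit 4), CV0⟩
noncomputable def lt : List Lev := [⟨(nat_lit 2), (nat_lit 20), (nat_lit 3), CV1⟩, ⟨(nat_lit 4), (nat_lit 16), (nat_lit 1), CV2⟩, ⟨(nat_lit 1), (nat_lit 3), (nat_lit 0), CV3⟩]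
theorem ch : Ch pt 21 q0 Q0 5 8 (l0 :: lt) :=
  ⟨(finLab 20).inj, reps_tabs (rp) (by decide +kernel) hc, by decide +kernel, cardLE_sub (ub6 pr.2 rl0)⟩
def SO_t : TN := (TN.leaf (nat_lit 0x2aaaaaaaaa9))
noncomputable def SO (i : ℕ) : ℕ := get9 SO_t (nat_lit 2) (nat_lit 3) i
def SV_t : TN := (TN.leaf (nat_lit 0x2265a41a46361865981228b4e321b041))
noncomputable def SV (i : ℕ) : ℕ := get9 SV_t (nat_lit 6) (nat_lit 63) i
def rt (i : ℕ) : ℕ := Nat.land (Nat.shiftRight (nat_lit 4) (Nat.mul (nat_lit 1) i)) (nat_lit 1)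
def sz (i : ℕ) : ℕ := Nat.land (Nat.shiftRight (nat_lit 20512) (Nat.mul (nat_lit 5) i)) (nat_lit 31)
noncomputable def s0 : ℕ → ℕ := soE Q0 (nat_lit 4) (nat_lit 21) (nat_lit 8) (nat_lit 2) SV SO rt
theorem ss0 : Nat.beq (rng s0 (nat_lit 0) (nat_lit 21)) (nat_lit 0) = true := by decide +kernel
theorem hs : ∀ i < 21, s0 i = 0 := by
  have h := zero_lt_zero s0
  have h := zero_lt_add (a := (nat_lit 0)) (n := (nat_lit 21)) (b := (nat_lit 21)) h ss0 rfl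
  exact h
theorem hsz : ∀ i ≤ 2, 1 ≤ i → cnt SO i 21 = sz i := by decide +kernel
theorem coatom : IsCoatom (MulAction.stabilizer P (pt 0)) :=
  ch.coatom (by decide +kernel) hs sz hsz (k0 := 1) (by decide +kernel) (by decide +kernel)
def B0 : List ℕ := [nat_lit 0, nat_lit 2, nat_lit 4, nat_lit 1]
theorem md0 : Md pt 21 B0 al T 6 := ch.md (rp) rfl
theorem card : Nat.card P = 20160 := ch.card
instance : Finite P := ch.fin
def W1_t : TL := (TL.node (TL.node (TL.node (TL.leaf [nat_lit 0]) (TL.leaf [nat_lit 4])) (TL.node (TL.leaf [nat_lit 2]) (TL.leaf [nat_lit 5, nat_lit 4, nat_lit 5, nat_lit 3, nat_lit 4, nat_lit 5, nat_lit 4, nat_lit 3, nat_lit 4, nat_lit 2, nat_lit 5, nat_lit 1]))) (TL.node (TL.node (TL.leaf [nat_lit 1]) (TL.leaf [nat_lit 5])) (TL.node (TL.leaf [nat_lit 3]) (TL.leaf [nat_lit 0, nat_lit 5, nat_lit 4, nat_lit 5, nat_lit 2, nat_lit 4, nat_lit 2, nat_lit 3, nat_lit 4]))))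
noncomputable def W1 (i : ℕ) : List ℕ := TL.get W1_t i
def Q1f_t : TN := (TN.leaf (nat_lit 0x152046c9e0315cb3a6636062853d545b222918702840821da99b86e7c4f29b58b300b05203411129795849a9716ba863a250188201a64b53c0d14613298e825181738b252df469a114244c9900708e117b92d9c8aa351835a080104e973674945e832e050298438823))
noncomputable def Q1f (i : ℕ) : ℕ := get9 Q1f_t (nat_lit 5) (nat_lit 31) i
noncomputable def Q1 (j c : ℕ) : ℕ := Q1f (Nat.add (Nat.mul j (nat_lit 21)) c)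
def V1_t : TL := (TL.node (TL.node (TL.node (TL.leaf [nat_lit 6, nat_lit 6, nat_lit 6, nat_lit 6, nat_lit 6, nat_lit 6, nat_lit 6, nat_lit 6, nat_lit 6, nat_lit 6, nat_lit 6, nat_lit 6, nat_lit 7, nat_lit 6, nat_lit 7, nat_lit 7, nat_lit 7, nat_lit 7, nat_lit 7, nat_lit 7, nat_lit 7, nat_lit 7, nat_lit 7, nat_lit 7, nat_lit 7, nat_lit 7, nat_lit 6, nat_lit 6, nat_lit 6, nat_lit 6, nat_lit 6, nat_lit 6, nat_lit 7]) (TL.leaf [nat_lit 6, nat_lit 6, nat_lit 7, nat_lit 7, nat_lit 7, nat_lit 7, nat_lit 7, nat_lit 7, nat_lit 6, nat_lit 6, nat_lit 6, nat_lit 6, nat_lit 6, nat_lit 6, nat_lit 6, nat_lit 6, nat_lit 6, nat_lit 6, nat_lit 6, nat_lit 6, nat_lit 6, nat_lit 6, nat_lit 6, nat_lit 6, nat_lit 6, nat_lit 6, nat_lit 6, nat_lit 6, nat_lit 6, nat_lit 6, nat_lit 6, nat_lit 6, nat_lit 7, nat_lit 7, nat_lit 7, nat_lit 7, nat_lit 7, nat_lit 7, nat_lit 7, nat_lit 7, nat_lit 7, nat_lit 7, nat_lit 7, nat_lit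 7, nat_lit 6])) (TL.leaf [nat_lit 7, nat_lit 7, nat_lit 6, nat_lit 6, nat_lit 6, nat_lit 6, nat_lit 6, nat_lit 6, nat_lit 7, nat_lit 6, nat_lit 7, nat_lit 6, nat_lit 6, nat_lit 6, nat_lit 6, nat_lit 6, nat_lit 6])) (TL.node (TL.node (TL.leaf [nat_lit 7, nat_lit 7, nat_lit 7, nat_lit 7, nat_lit 7, nat_lit 7, nat_lit 6, nat_lit 7, nat_lit 7, nat_lit 6, nat_lit 6, nat_lit 6, nat_lit 6, nat_lit 6, nat_lit 6, nat_lit 7, nat_lit 7, nat_lit 7, nat_lit 7, nat_lit 7, nat_lit 7, nat_lit 6, nat_lit 6]) (TL.leaf [nat_lit 7, nat_lit 6, nat_lit 7, nat_lit 7, nat_lit 7, nat_lit 7, nat_lit 7, nat_lit 7, nat_lit 6, nat_lit 6, nat_lit 6, nat_lit 6, nat_lit 6, nat_lit 6, nat_lit 7, nat_lit 6, nat_lit 7, nat_lit 6, nat_lit 6, nat_lit 7, nat_lit 6, nat_lit 6, nat_lit 6, nat_lit 6, nat_lit 6, nat_lit 6])) (TL.leaf [nat_lit 7, nat_lit 6, nat_lit 7, nat_lit 7, nat_lit 7, nat_lit 7, nat_lit 7, nat_lit 7, nat_lit 6,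 nat_lit 6, nat_lit 6, nat_lit 6, nat_lit 6, nat_lit 6, nat_lit 7, nat_lit 6, nat_lit 6, nat_lit 6, nat_lit 6, nat_lit 6, nat_lit 6, nat_lit 6, nat_lit 6, nat_lit 6, nat_lit 6, nat_lit 6, nat_lit 6, nat_lit 7, nat_lit 7, nat_lit 7, nat_lit 7, nat_lit 7, nat_lit 7, nat_lit 7, nat_lit 7, nat_lit 7, nat_lit 7, nat_lit 7, nat_lit 7, nat_lit 6, nat_lit 6, nat_lit 6, nat_lit 6, nat_lit 6, nat_lit 6])))
noncomputable def V1 (i : ℕ) : List ℕ := TL.get V1_t i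
noncomputable def e1 : ℕ → ℕ := tabE T Q1 W1 (nat_lit 8)
theorem ee0 : Nat.beq (rng e1 (nat_lit 0) (nat_lit 21)) (nat_lit 0) = true := by decide +kernel
theorem he : ∀ i < 21, e1 i = 0 := by
  have h := zero_lt_zero e1
  have h := zero_lt_add (a := (nat_lit 0)) (n := (nat_lit 21)) (b := (nat_lit 21)) h ee0 rfl
  exact h
theorem md1 : Md pt 21 B0 (fun j => ev al (W1 j)) Q1 8 := md0.words (by decide +kernel) he
instance simple : IsSimpleGroup P := ch.simple rfl coatom (p := 7) (md1.ord le_rfl (a := ([nat_lit 6], 7)) (by decide +kernel)).2.1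
  (by decide +kernel) (md0.ncl (top) md1 (x := 6) (y := 7) [nat_lit 4, nat_lit 4, nat_lit 3, nat_lit 2, nat_lit 1, nat_lit 5] V1 (by decide +kernel))
theorem ctr : Subgroup.center P = ⊥ := ctr_bot card (by norm_num) (by decide)
theorem iv : InvOK al inv 6 := pr.2.sub le_rfl
theorem rl : ∀ w ∈ rels, ev al w = 1 := rels_sub (by decide +kernel) rl0
theorem ub : Ub inv rels 6 (Nat.card P) := fun _ _ _ h1 h2 => card ▸ ub6 h1 h2

end Cfsg.Agent.Ct.L34
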