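import Cfsg.Agent.Lib.Cert.Mod
import Cfsg.Agent.Lib.PermCert.PL

set_option autoImplicit false
set_option maxRecDepth 100000

namespace Cfsg.Agent.Ct.L34

open Cfsg.Agent.PC

open Cfsg.Agent.Fi Cfsg.Agent.Ct
namespace L1
def t0x : TN := (TN.leaf (nat_lit 335137))
def t1x : TN := (TN.leaf (nat_lit 0x104a22))
def tt : TN := (TN.node (TN.node (TN.node (TN.node t0x (TN.leaf (nat_lit 0))) (TN.node (TN.leaf (nat_lit 0)) (TN.leaf (nat_lit 0)))) (TN.node (TN.node (TN.leaf (nat_lit 0)) (TN.leaf (nat_lit 0))) (TN.node (TN.leaf (nat_lit 0)) (TN.leaf (nat_lit 0))))) (TN.node (TN.node (TN.node t1x (TN.leaf (nat_lit 0))) (TN.node (TN.leaf (nat_lit 0)) (TN.leaf (nat_lit 0)))) (TN.node (TN.node (TN.leaf (nat_lit 0)) (TN.leaf (nat_lit 0))) (TN.node (TN.leaf (nat_lit 0)) (TN.leaf (nat_lit 0))))))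
noncomputable def T (j c : ℕ) : ℕ := getL tt (nat_lit 7) (nat_lit 3) j c
noncomputable def E (j c : ℕ) : ℕ := getL tt (nat_lit 7) (nat_lit 127) j c
theorem T_eq (j c : ℕ) : T j c = E j c % 4 :=
  getL_mod (a := 2) (b := 7) _ _ (by norm_num) (by norm_num) (by norm_num) (by norm_num) j c
def rels : List (List ℕ) := [[nat_lit 0, nat_lit 0, nat_lit 0]]
def inv (i : ℕ) : ℕ := Nat.land (Nat.shiftRight (nat_lit 33) (Nat.mul (nat_lit 2) i)) (nat_lit 3)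
def X_t : TN := (TN.leaf (nat_lit 0))
noncomputable def X (i : ℕ) : ℕ := get9 X_t (nat_lit 1) (nat_lit 1) i
def Jp_t : TN := (TN.leaf (nat_lit 0))
noncomputable def Jp (i : ℕ) : ℕ := get9 Jp_t (nat_lit 1) (nat_lit 1) i
def J_t : TN := (TN.leaf (nat_lit 0))
noncomputable def J (k : ℕ) : ℕ := getV J_t Jp k
def Pa_t : TN := (TN.leaf (nat_lit 0x102080))
noncomputable def Pa (i : ℕ) : ℕ := get9 Pa_t (nat_lit 7) (nat_lit 127) i
def W_t : TL := (TL.leaf [nat_lit 2, nat_lit 0, nat_lit 1, nat_lit 1])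
noncomputable def W (i : ℕ) : List ℕ := TL.get W_t i
def WA_t : TL := (TL.leaf [nat_lit 0])
noncomputable def WA (i : ℕ) : List ℕ := TL.get WA_t i
noncomputable def row : ℕ → ℕ := hRow (nat_lit 2) (nat_lit 2) (nat_lit 0) (nat_lit 4) (nat_lit 4) (nat_lit 16) (nat_lit 64) (nat_lit 64) (nat_lit 0) E X Pa inv (wfun (nat_lit 1) W_t)
noncomputable def aux : ℕ → ℕ := hAux (nat_lit 3) (nat_lit 2) (nat_lit 4) (nat_lit 16) (nat_lit 64) (nat_lit 2) (nat_lit 2) (nat_lit 64) (nat_lit 0) E X J Pa inv WA_t.get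
theorem r0 : Nat.beq (rng row (nat_lit 0) (nat_lit 3)) (nat_lit 0) = true := by decide +kernel
theorem rows : ∀ i < 3, row i = 0 := by
  have h := zero_lt_zero row
  have h := zero_lt_add (a := (nat_lit 0)) (n := (nat_lit 3)) (b := (nat_lit 3)) h r0 rfl
  exact h
theorem auxs : ∀ i < 0, aux i = 0 := by
  have h := zero_lt_zero aux
  exact h
theorem closes.{u} : ClosesT.{u} inv rels 2 0 3 T :=
  hc_closes (N1 := (nat_lit 2)) rfl T_eq (by decide +kernel) rows auxs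
theorem T_inv : ∀ c < 3, ∀ j < 2, T j c < 3 ∧ T (inv j) (T j c) = c := 
  hc_inv (inv := inv) (N1 := (nat_lit 2)) rfl T_eq rows
end L1

namespace L2
def t0x : TN := (TN.leaf (nat_lit 0x11980d69862f11532b60c20e11232720a111324206203110))
def t1x : TN := (TN.leaf (nat_lit 0x70c1187ae58940a11520f70d40611220b403111207204200))
def t2x : TN := (TN.leaf (nat_lit 0xa0b90a11711694f84e50843920d20c402403344335110201))
def t3x : TN := (TN.leaf (nat_lit 0x40a40b50c47d36e35f114113406357111209208110205202))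
def tt : TN := (TN.node (TN.node (TN.node (TN.node t0x (TN.leaf (nat_lit 0))) (TN.node (TN.leaf (nat_lit 0)) (TN.leaf (nat_lit 0)))) (TN.node (TN.node t2x (TN.leaf (nat_lit 0))) (TN.node (TN.leaf (nat_lit 0)) (TN.leaf (nat_lit 0))))) (TN.node (TN.node (TN.node t1x (TN.leaf (nat_lit 0))) (TN.node (TN.leaf (nat_lit 0)) (TN.leaf (nat_lit 0)))) (TN.node (TN.node t3x (TN.leaf (nat_lit 0))) (TN.node (TN.leaf (nat_lit 0)) (TN.leaf (nat_lit 0))))))
noncomputable def T (j c : ℕ) : ℕ := getL tt (nat_lit 12) (nat_lit 15) j c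
noncomputable def E (j c : ℕ) : ℕ := getL tt (nat_lit 12) (nat_lit 4095) j c
theorem T_eq (j c : ℕ) : T j c = E j c % 16 :=
  getL_mod (a := 4) (b := 12) _ _ (by norm_num) (by norm_num) (by norm_num) (by norm_num) j c
def rels : List (List ℕ) := [[nat_lit 0, nat_lit 0, nat_lit 0], [nat_lit 0, nat_lit 2, nat_lit 0, nat_lit 2, nat_lit 0, nat_lit 2], [nat_lit 0, nat_lit 3, nat_lit 0, nat_lit 3, nat_lit 0, nat_lit 3], [nat_lit 2, nat_lit 3, nat_lit 2, nat_lit 3], [nat_lit 0, nat_lit 3, nat_lit 2, nat_lit 0, nat_lit 3, nat_lit 2, nat_lit 0, nat_lit 3, nat_lit 2]]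
def inv (i : ℕ) : ℕ := Nat.land (Nat.shiftRight (nat_lit 18049) (Nat.mul (nat_lit 3) i)) (nat_lit 7)
def X_t : TN := (TN.leaf (nat_lit 0))
noncomputable def X (i : ℕ) : ℕ := get9 X_t (nat_lit 1) (nat_lit 1) i
def Jp_t : TN := (TN.leaf (nat_lit 0))
noncomputable def Jp (i : ℕ) : ℕ := get9 Jp_t (nat_lit 1) (nat_lit 1) i
def J_t : TN := (TN.leaf (nat_lit 0))
noncomputable def J (k : ℕ) : ℕ := getV J_t Jp k
def Pa_t : TN := (TN.leaf (nat_lit 0x921205b93626a0d45a1b3344088509a1042240c81000))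
noncomputable def Pa (i : ℕ) : ℕ := get9 Pa_t (nat_lit 11) (nat_lit 2047) i
def W_t : TL := (TL.node (TL.node (TL.node (TL.node (TL.leaf [nat_lit 2, nat_lit 0, nat_lit 1, nat_lit 1]) (TL.leaf [nat_lit 1, nat_lit 1, nat_lit 0, nat_lit 0])) (TL.leaf [nat_lit 4099, nat_lit 3, nat_lit 0, nat_lit 3, nat_lit 0, nat_lit 3, nat_lit 0])) (TL.node (TL.leaf [nat_lit 2050, nat_lit 2, nat_lit 1, nat_lit 2, nat_lit 1, nat_lit 2, nat_lit 1]) (TL.leaf [nat_lit 8193, nat_lit 1, nat_lit 3, nat_lit 2, nat_lit 0, nat_lit 3, nat_lit 2, nat_lit 0, nat_lit 3, nat_lit 2]))) (TL.node (TL.node (TL.leaf [nat_lit 6145, nat_lit 2, nat_lit 3, nat_lit 2, nat_lit 3]) (TL.leaf [nat_lit 6147, nat_lit 3, nat_lit 2, nat_lit 3, nat_lit 2])) (TL.node (TL.leaf [nat_lit 4098, nat_lit 3, nat_lit 1, nat_lit 3, nat_lit 1, nat_lit 3, nat_lit 1]) (TL.leaf [nat_lit 2052, nat_lit 0, nat_lit 2, nat_lit 1, nat_lit 2, nat_lit 1, nat_lit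 2]))))
noncomputable def W (i : ℕ) : List ℕ := TL.get W_t i
def WA_t : TL := (TL.leaf [nat_lit 0])
noncomputable def WA (i : ℕ) : List ℕ := TL.get WA_t i
noncomputable def row : ℕ → ℕ := hRow (nat_lit 15) (nat_lit 4) (nat_lit 2) (nat_lit 16) (nat_lit 16) (nat_lit 256) (nat_lit 256) (nat_lit 256) (nat_lit 0) E X Pa inv (wfun (nat_lit 9) W_t)
noncomputable def aux : ℕ → ℕ := hAux (nat_lit 16) (nat_lit 4) (nat_lit 16) (nat_lit 256) (nat_lit 256) (nat_lit 2) (nat_lit 2) (nat_lit 256) (nat_lit 0) E X J Pa inv WA_t.get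
theorem r0 : Nat.beq (rng row (nat_lit 0) (nat_lit 16)) (nat_lit 0) = true := by decide +kernel
theorem rows : ∀ i < 16, row i = 0 := by
  have h := zero_lt_zero row
  have h := zero_lt_add (a := (nat_lit 0)) (n := (nat_lit 16)) (b := (nat_lit 16)) h r0 rfl
  exact h
theorem auxs : ∀ i < 0, aux i = 0 := by
  have h := zero_lt_zero aux
  exact h
theorem closes.{u} : ClosesT.{u} inv rels 4 2 16 T :=
  hc_closes (N1 := (nat_lit 15)) rfl T_eq (by decide +kernel) rows auxs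
theorem T_inv : ∀ c < 16, ∀ j < 4, T j c < 16 ∧ T (inv j) (T j c) = c := 
  hc_inv (inv := inv) (N1 := (nat_lit 15)) rfl T_eq rows
end L2

namespace L3
def t0x : TN := (TN.leaf (nat_lit 0xe04c42ca148428314300da01e1f16025805801880f203914b401080a1084c432008420))
def t1x : TN := (TN.leaf (nat_lit 0xda4ec11903100f10a0427b438812501842454ac81094b5d095428cc54008421200c800))
def t2x : TN := (TN.leaf (nat_lit 0x10bb0b2994500aa024813401ea6c4014cb0973c42331b442231ac42120208062010420))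
def t3x : TN := (TN.leaf (nat_lit 0x9042eb2c6461b3b02200a109aaac1091d8e108e9af108880d108480b20248072014420))
def t4x : TN := (TN.leaf (nat_lit 0xa8cd40f10a600b424bacea83442472410082044cead89d805559880c4008c831080801))
def tt : TN := (TN.node (TN.node (TN.node (TN.node t0x (TN.leaf (nat_lit 0))) (TN.node t4x (TN.leaf (nat_lit 0)))) (TN.node (TN.node t2x (TN.leaf (nat_lit 0))) (TN.node (TN.leaf (nat_lit 0)) (TN.leaf (nat_lit 0))))) (TN.node (TN.node (TN.node t1x (TN.leaf (nat_lit 0))) (TN.node (TN.leaf (nat_lit 0)) (TN.leaf (nat_lit 0)))) (TN.node (TN.node t3x (TN.leaf (nat_lit 0))) (TN.node (TN.leaf (nat_lit 0)) (TN.leaf (nat_lit 0))))))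
noncomputable def T (j c : ℕ) : ℕ := getL tt (nat_lit 14) (nat_lit 31) j c
noncomputable def E (j c : ℕ) : ℕ := getL tt (nat_lit 14) (nat_lit 16383) j c
theorem T_eq (j c : ℕ) : T j c = E j c % 32 :=
  getL_mod (a := 5) (b := 14) _ _ (by norm_num) (by norm_num) (by norm_num) (by norm_num) j c
def rels : List (List ℕ) := [[nat_lit 0, nat_lit 0, nat_lit 0], [nat_lit 0, nat_lit 2, nat_lit 0, nat_lit 2, nat_lit 0, nat_lit 2], [nat_lit 0, nat_lit 3, nat_lit 0, nat_lit 3, nat_lit 0, nat_lit 3], [nat_lit 2, nat_lit 3, nat_lit 2, nat_lit 3], [nat_lit 0, nat_lit 3, nat_lit 2, nat_lit 0, nat_lit 3, nat_lit 2, nat_lit 0, nat_lit 3, nat_lit 2], [nat_lit 0, nat_lit 4, nat_lit 0, nat_lit 4, nat_lit 0, nat_lit 4], [nat_lit 0, nat_lit 2, nat_lit 4, nat_lit 0, nat_lit 2, nat_lit 4, nat_lit 0, nat_lit 2, nat_lit 4], [nat_lit 0, nat_lit 4, nat_lit 2, nat_lit 0, nat_lit 4, nat_lit 2, nat_lit 0, nat_lit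 4, nat_lit 2], [nat_lit 4, nat_lit 2, nat_lit 1, nat_lit 3, nat_lit 4, nat_lit 2, nat_lit 1, nat_lit 3]]
def inv (i : ℕ) : ℕ := Nat.land (Nat.shiftRight (nat_lit 181889) (Nat.mul (nat_lit 3) i)) (nat_lit 7)
def X_t : TN := (TN.leaf (nat_lit 0))
noncomputable def X (i : ℕ) : ℕ := get9 X_t (nat_lit 1) (nat_lit 1) i
def Jp_t : TN := (TN.leaf (nat_lit 0))
noncomputable def Jp (i : ℕ) : ℕ := get9 Jp_t (nat_lit 1) (nat_lit 1) i
def J_t : TN := (TN.leaf (nat_lit 0))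
noncomputable def J (k : ℕ) : ℕ := getV J_t Jp k
def Pa_t : TN := (TN.leaf (nat_lit 0xae28c0894880881871863644643641633632623622413412410411204000))
noncomputable def Pa (i : ℕ) : ℕ := get9 Pa_t (nat_lit 12) (nat_lit 4095) i
def W_t : TL := (TL.node (TL.node (TL.node (TL.node (TL.node (TL.leaf [nat_lit 2, nat_lit 0, nat_lit 1, nat_lit 1]) (TL.leaf [nat_lit 12291, nat_lit 2, nat_lit 4, nat_lit 0, nat_lit 2, nat_lit 4, nat_lit 0, nat_lit 2, nat_lit 4, nat_lit 0])) (TL.leaf [nat_lit 2052, nat_lit 0, nat_lit 2, nat_lit 1, nat_lit 2, nat_lit 1, nat_lit 2])) (TL.node (TL.node (TL.leaf [nat_lit 16388, nat_lit 1, nat_lit 2, nat_lit 4, nat_lit 3, nat_lit 0, nat_lit 2, nat_lit 4, nat_lit 3]) (TL.leaf [nat_lit 10243, nat_lit 4, nat_lit 0, nat_lit 4, nat_lit 0, nat_lit 4, nat_lit 0])) (TL.leaf [nat_lit 2051, nat_lit 2, nat_lit 0, nat_lit 2, nat_lit 0, nat_lit 2, nat_lit 0]))) (TL.node (TL.node (TL.node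 (TL.leaf [nat_lit 10242, nat_lit 4, nat_lit 1, nat_lit 4, nat_lit 1, nat_lit 4, nat_lit 1]) (TL.leaf [nat_lit 2049, nat_lit 1, nat_lit 2, nat_lit 0, nat_lit 2, nat_lit 0, nat_lit 2])) (TL.leaf [nat_lit 4099, nat_lit 3, nat_lit 0, nat_lit 3, nat_lit 0, nat_lit 3, nat_lit 0])) (TL.node (TL.leaf [nat_lit 1, nat_lit 1, nat_lit 0, nat_lit 0]) (TL.leaf [nat_lit 16385, nat_lit 4, nat_lit 2, nat_lit 1, nat_lit 3, nat_lit 4, nat_lit 2, nat_lit 1, nat_lit 3])))) (TL.node (TL.node (TL.node (TL.node (TL.leaf [nat_lit 6145, nat_lit 2, nat_lit 3, nat_lit 2, nat_lit 3]) (TL.leaf [nat_lit 14341, nat_lit 2, nat_lit 0, nat_lit 4, nat_lit 2, nat_lit 0, nat_lit 4, nat_lit 2, nat_lit 0, nat_lit 4])) (TL.leaf [nat_lit 12293, nat_lit 4, nat_lit 0, nat_lit 2, nat_lit 4, nat_lit 0, nat_lit 2, nat_lit 4, nat_lit 0, nat_lit 2])) (TL.node (TL.leaf [nat_lit 14339, nat_lit 4, nat_lit 2, nat_lit 0, nat_lit 4, nat_lit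 2, nat_lit 0, nat_lit 4, nat_lit 2, nat_lit 0]) (TL.leaf [nat_lit 10244, nat_lit 0, nat_lit 4, nat_lit 1, nat_lit 4, nat_lit 1, nat_lit 4]))) (TL.node (TL.node (TL.node (TL.leaf [nat_lit 2050, nat_lit 2, nat_lit 1, nat_lit 2, nat_lit 1, nat_lit 2, nat_lit 1]) (TL.leaf [nat_lit 16391, nat_lit 3, nat_lit 4, nat_lit 2, nat_lit 1, nat_lit 3, nat_lit 4, nat_lit 2, nat_lit 1])) (TL.leaf [nat_lit 6147, nat_lit 3, nat_lit 2, nat_lit 3, nat_lit 2])) (TL.node (TL.leaf [nat_lit 4097, nat_lit 1, nat_lit 3, nat_lit 0, nat_lit 3, nat_lit 0, nat_lit 3]) (TL.leaf [nat_lit 16392, nat_lit 4, nat_lit 3, nat_lit 0, nat_lit 2, nat_lit 4, nat_lit 3, nat_lit 0, nat_lit 2])))))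
noncomputable def W (i : ℕ) : List ℕ := TL.get W_t i
def WA_t : TL := (TL.leaf [nat_lit 0])
noncomputable def WA (i : ℕ) : List ℕ := TL.get WA_t i
noncomputable def row : ℕ → ℕ := hRow (nat_lit 19) (nat_lit 5) (nat_lit 4) (nat_lit 32) (nat_lit 32) (nat_lit 1024) (nat_lit 512) (nat_lit 512) (nat_lit 0) E X Pa inv (wfun (nat_lit 21) W_t)
noncomputable def aux : ℕ → ℕ := hAux (nat_lit 20) (nat_lit 5) (nat_lit 32) (nat_lit 1024) (nat_lit 512) (nat_lit 2) (nat_lit 2) (nat_lit 512) (nat_lit 0) E X J Pa inv WA_t.get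
theorem r0 : Nat.beq (rng row (nat_lit 0) (nat_lit 20)) (nat_lit 0) = true := by decide +kernel
theorem rows : ∀ i < 20, row i = 0 := by
  have h := zero_lt_zero row
  have h := zero_lt_add (a := (nat_lit 0)) (n := (nat_lit 20)) (b := (nat_lit 20)) h r0 rfl
  exact h
theorem auxs : ∀ i < 0, aux i = 0 := by
  have h := zero_lt_zero aux
  exact h
theorem closes.{u} : ClosesT.{u} inv rels 5 4 20 T :=
  hc_closes (N1 := (nat_lit 19)) rfl T_eq (by decide +kernel) rows auxs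
theorem T_inv : ∀ c < 20, ∀ j < 5, T j c < 20 ∧ T (inv j) (T j c) = c := 
  hc_inv (inv := inv) (N1 := (nat_lit 19)) rfl T_eq rows
end L3

namespace L4
def t0x : TN := (TN.leaf (nat_lit 0x82f6054082a185250105333480b4806300942c8101138075bae188c3805100d08221844100320010820))
def t1x : TN := (TN.leaf (nat_lit 0x6813580f2011082a4ab01014600808252007422e1012286c480b31c941ed318620030822100418611000))
def t2x : TN := (TN.leaf (nat_lit 0x80d45bf3200d500b08277c6f200618d240094b1108243a4c0823101018ae0822100a1008100518e10820))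
def t3x : TN := (TN.leaf (nat_lit 0x84348af38010640a7c32642f082550074ae8082468110823500c4a8d0822100e100b1009100629410820))
def t4x : TN := (TN.leaf (nat_lit 0x3811082b700e3134749008256932300a636c1013296d5b6948066c474268100f28032124082110020820))
def t5x : TN := (TN.leaf (nat_lit 0x981394d44a12400a59b08caf638e600608245bc839b12003600b08225b8d5345100c1909100708201001))
def tt : TN := (TN.node (TN.node (TN.node (TN.node t0x (TN.leaf (nat_lit 0))) (TN.node t4x (TN.leaf (nat_lit 0)))) (TN.node (TN.node t2x (TN.leaf (nat_lit 0))) (TN.node (TN.leaf (nat_lit 0)) (TN.leaf (nat_lit 0))))) (TN.node (TN.node (TN.node t1x (TN.leaf (nat_lit 0))) (TN.node t5x (TN.leaf (nat_lit 0)))) (TN.node (TN.node t3x (TN.leaf (nat_lit 0))) (TN.node (TN.leaf (nat_lit 0)) (TN.leaf (nat_lit 0))))))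
noncomputable def T (j c : ℕ) : ℕ := getL tt (nat_lit 16) (nat_lit 31) j c
noncomputable def E (j c : ℕ) : ℕ := getL tt (nat_lit 16) (nat_lit 65535) j c
theorem T_eq (j c : ℕ) : T j c = E j c % 32 :=
  getL_mod (a := 5) (b := 16) _ _ (by norm_num) (by norm_num) (by norm_num) (by norm_num) j c
def rels : List (List ℕ) := [[nat_lit 0, nat_lit 0, nat_lit 0], [nat_lit 0, nat_lit 2, nat_lit 0, nat_lit 2, nat_lit 0, nat_lit 2], [nat_lit 0, nat_lit 3, nat_lit 0, nat_lit 3, nat_lit 0, nat_lit 3], [nat_lit 2, nat_lit 3, nat_lit 2, nat_lit 3], [nat_lit 0, nat_lit 3, nat_lit 2, nat_lit 0, nat_lit 3, nat_lit 2, nat_lit 0, nat_lit 3, nat_lit 2], [nat_lit 0, nat_lit 4, nat_lit 0, nat_lit 4, nat_lit 0, nat_lit 4], [nat_lit 0, nat_lit 2, nat_lit 4, nat_lit 0, nat_lit 2, nat_lit 4, nat_lit 0, nat_lit 2, nat_lit 4], [nat_lit 0, nat_lit 4, nat_lit 2, nat_lit 0, nat_lit 4, nat_lit 2, nat_lit 0, nat_lit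 4, nat_lit 2], [nat_lit 4, nat_lit 2, nat_lit 1, nat_lit 3, nat_lit 4, nat_lit 2, nat_lit 1, nat_lit 3], [nat_lit 0, nat_lit 5, nat_lit 0, nat_lit 5], [nat_lit 5, nat_lit 2, nat_lit 5, nat_lit 0, nat_lit 3, nat_lit 0, nat_lit 2, nat_lit 0], [nat_lit 5, nat_lit 4, nat_lit 0, nat_lit 5, nat_lit 3, nat_lit 1, nat_lit 4, nat_lit 5, nat_lit 1, nat_lit 3, nat_lit 1, nat_lit 4, nat_lit 0, nat_lit 3, nat_lit 0]]
def inv (i : ℕ) : ℕ := Nat.land (Nat.shiftRight (nat_lit 0x1ac681) (Nat.mul (nat_lit 3) i)) (nat_lit 7)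
def X_t : TN := (TN.leaf (nat_lit 0))
noncomputable def X (i : ℕ) : ℕ := get9 X_t (nat_lit 1) (nat_lit 1) i
def Jp_t : TN := (TN.leaf (nat_lit 0))
noncomputable def Jp (i : ℕ) : ℕ := get9 Jp_t (nat_lit 1) (nat_lit 1) i
def J_t : TN := (TN.leaf (nat_lit 0))
noncomputable def J (k : ℕ) : ℕ := getV J_t Jp k
def Pa_t : TN := (TN.leaf (nat_lit 0xaf0ab4aa0aa1872854853851845843842833832625623622620621414205000))
noncomputable def Pa (i : ℕ) : ℕ := get9 Pa_t (nat_lit 12) (nat_lit 4095) i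
def W_t : TL := (TL.node (TL.node (TL.node (TL.node (TL.node (TL.node (TL.leaf [nat_lit 2, nat_lit 0, nat_lit 1, nat_lit 1]) (TL.leaf [nat_lit 10243, nat_lit 4, nat_lit 0, nat_lit 4, nat_lit 0, nat_lit 4, nat_lit 0])) (TL.leaf [nat_lit 20494, nat_lit 2, nat_lit 5, nat_lit 1, nat_lit 2, nat_lit 1, nat_lit 3, nat_lit 1, nat_lit 5])) (TL.node (TL.leaf [nat_lit 20489, nat_lit 3, nat_lit 0, nat_lit 2, nat_lit 0, nat_lit 5, nat_lit 2, nat_lit 5, nat_lit 0]) (TL.leaf [nat_lit 20492, nat_lit 5, nat_lit 2, nat_lit 5, nat_lit 1, nat_lit 2, nat_lit 1, nat_lit 3, nat_lit 1]))) (TL.node (TL.node (TL.node (TL.leaf [nat_lit 2050, nat_lit 2, nat_lit 1, nat_lit 2, nat_lit 1, nat_lit 2, nat_lit 1]) (TL.leaf [nat_lit 22535, nat_lit 5, nat_lit 3, nat_lit 1, nat_lit 4, nat_lit 5, nat_lit 1, nat_lit 3, nat_lit 1, nat_lit 4, nat_lit 0, nat_lit 3, nat_lit 0, nat_lit 5, nat_lit 4, nat_lit 0])) (TL.leaf [nat_lit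 20486, nat_lit 0, nat_lit 3, nat_lit 1, nat_lit 5, nat_lit 2, nat_lit 5, nat_lit 1, nat_lit 2])) (TL.node (TL.leaf [nat_lit 22557, nat_lit 1, nat_lit 5, nat_lit 4, nat_lit 0, nat_lit 5, nat_lit 3, nat_lit 1, nat_lit 4, nat_lit 5, nat_lit 1, nat_lit 3, nat_lit 1, nat_lit 4, nat_lit 0, nat_lit 3]) (TL.leaf [nat_lit 20485, nat_lit 5, nat_lit 0, nat_lit 3, nat_lit 0, nat_lit 2, nat_lit 0, nat_lit 5, nat_lit 2])))) (TL.node (TL.node (TL.node (TL.node (TL.leaf [nat_lit 18436, nat_lit 0, nat_lit 5, nat_lit 1, nat_lit 5]) (TL.leaf [nat_lit 12290, nat_lit 4, nat_lit 2, nat_lit 1, nat_lit 4, nat_lit 2, nat_lit 1, nat_lit 4, nat_lit 2, nat_lit 1])) (TL.leaf [nat_lit 4098, nat_lit 3, nat_lit 1, nat_lit 3, nat_lit 1, nat_lit 3, nat_lit 1])) (TL.node (TL.leaf [nat_lit 16388, nat_lit 1, nat_lit 2, nat_lit 4, nat_lit 3, nat_lit 0, nat_lit 2, nat_lit 4, nat_lit 3]) (TL.leaf [nat_lit 18435, nat_lit 5,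 nat_lit 0, nat_lit 5, nat_lit 0]))) (TL.node (TL.node (TL.leaf [nat_lit 22552, nat_lit 5, nat_lit 1, nat_lit 4, nat_lit 5, nat_lit 1, nat_lit 3, nat_lit 1, nat_lit 4, nat_lit 0, nat_lit 3, nat_lit 0, nat_lit 5, nat_lit 4, nat_lit 0, nat_lit 3]) (TL.leaf [nat_lit 2051, nat_lit 2, nat_lit 0, nat_lit 2, nat_lit 0, nat_lit 2, nat_lit 0])) (TL.node (TL.leaf [nat_lit 18434, nat_lit 5, nat_lit 1, nat_lit 5, nat_lit 1]) (TL.leaf [nat_lit 20488, nat_lit 3, nat_lit 1, nat_lit 5, nat_lit 2, nat_lit 5, nat_lit 1, nat_lit 2, nat_lit 1]))))) (TL.node (TL.node (TL.node (TL.node (TL.node (TL.leaf [nat_lit 18433, nat_lit 1, nat_lit 5, nat_lit 0, nat_lit 5]) (TL.leaf [nat_lit 14341, nat_lit 2, nat_lit 0, nat_lit 4, nat_lit 2, nat_lit 0, nat_lit 4, nat_lit 2, nat_lit 0, nat_lit 4])) (TL.leaf [nat_lit 12293, nat_lit 4, nat_lit 0, nat_lit 2, nat_lit 4, nat_lit 0, nat_lit 2, nat_lit 4, nat_lit 0, nat_lit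 2])) (TL.node (TL.leaf [nat_lit 14339, nat_lit 4, nat_lit 2, nat_lit 0, nat_lit 4, nat_lit 2, nat_lit 0, nat_lit 4, nat_lit 2, nat_lit 0]) (TL.leaf [nat_lit 16392, nat_lit 4, nat_lit 3, nat_lit 0, nat_lit 2, nat_lit 4, nat_lit 3, nat_lit 0, nat_lit 2]))) (TL.node (TL.node (TL.leaf [nat_lit 20483, nat_lit 2, nat_lit 5, nat_lit 0, nat_lit 3, nat_lit 0, nat_lit 2, nat_lit 0, nat_lit 5]) (TL.leaf [nat_lit 4099, nat_lit 3, nat_lit 0, nat_lit 3, nat_lit 0, nat_lit 3, nat_lit 0])) (TL.node (TL.leaf [nat_lit 1, nat_lit 1, nat_lit 0, nat_lit 0]) (TL.leaf [nat_lit 12291, nat_lit 2, nat_lit 4, nat_lit 0, nat_lit 2, nat_lit 4, nat_lit 0, nat_lit 2, nat_lit 4, nat_lit 0])))) (TL.node (TL.node (TL.node (TL.node (TL.leaf [nat_lit 6145, nat_lit 2, nat_lit 3, nat_lit 2, nat_lit 3]) (TL.leaf [nat_lit 22529, nat_lit 5, nat_lit 4, nat_lit 0, nat_lit 5, nat_lit 3, nat_lit 1, nat_lit 4, nat_lit 5, nat_lit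 1, nat_lit 3, nat_lit 1, nat_lit 4, nat_lit 0, nat_lit 3, nat_lit 0])) (TL.leaf [nat_lit 2049, nat_lit 1, nat_lit 2, nat_lit 0, nat_lit 2, nat_lit 0, nat_lit 2])) (TL.node (TL.leaf [nat_lit 20481, nat_lit 5, nat_lit 2, nat_lit 5, nat_lit 0, nat_lit 3, nat_lit 0, nat_lit 2, nat_lit 0]) (TL.leaf [nat_lit 4100, nat_lit 0, nat_lit 3, nat_lit 1, nat_lit 3, nat_lit 1, nat_lit 3]))) (TL.node (TL.node (TL.leaf [nat_lit 10242, nat_lit 4, nat_lit 1, nat_lit 4, nat_lit 1, nat_lit 4, nat_lit 1]) (TL.leaf [nat_lit 10244, nat_lit 0, nat_lit 4, nat_lit 1, nat_lit 4, nat_lit 1, nat_lit 4])) (TL.node (TL.leaf [nat_lit 4097, nat_lit 1, nat_lit 3, nat_lit 0, nat_lit 3, nat_lit 0, nat_lit 3]) (TL.leaf [nat_lit 16391, nat_lit 3, nat_lit 4, nat_lit 2, nat_lit 1, nat_lit 3, nat_lit 4, nat_lit 2, nat_lit 1]))))))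
noncomputable def W (i : ℕ) : List ℕ := TL.get W_t i
def WA_t : TL := (TL.leaf [nat_lit 0])
noncomputable def WA (i : ℕ) : List ℕ := TL.get WA_t i
noncomputable def row : ℕ → ℕ := hRow (nat_lit 20) (nat_lit 6) (nat_lit 5) (nat_lit 32) (nat_lit 64) (nat_lit 2048) (nat_lit 512) (nat_lit 512) (nat_lit 0) E X Pa inv (wfun (nat_lit 37) W_t)
noncomputable def aux : ℕ → ℕ := hAux (nat_lit 21) (nat_lit 6) (nat_lit 32) (nat_lit 2048) (nat_lit 512) (nat_lit 2) (nat_lit 2) (nat_lit 512) (nat_lit 0) E X J Pa inv WA_t.get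
theorem r0 : Nat.beq (rng row (nat_lit 0) (nat_lit 21)) (nat_lit 0) = true := by decide +kernel
theorem rows : ∀ i < 21, row i = 0 := by
  have h := zero_lt_zero row
  have h := zero_lt_add (a := (nat_lit 0)) (n := (nat_lit 21)) (b := (nat_lit 21)) h r0 rfl
  exact h
theorem auxs : ∀ i < 0, aux i = 0 := by
  have h := zero_lt_zero aux
  exact h
theorem closes.{u} : ClosesT.{u} inv rels 6 5 21 T :=
  hc_closes (N1 := (nat_lit 20)) rfl T_eq (by decide +kernel) rows auxs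
theorem T_inv : ∀ c < 21, ∀ j < 6, T j c < 21 ∧ T (inv j) (T j c) = c := 
  hc_inv (inv := inv) (N1 := (nat_lit 20)) rfl T_eq rows
end L4

def rels : List (List ℕ) := [[nat_lit 0, nat_lit 0, nat_lit 0], [nat_lit 0, nat_lit 2, nat_lit 0, nat_lit 2, nat_lit 0, nat_lit 2], [nat_lit 0, nat_lit 3, nat_lit 0, nat_lit 3, nat_lit 0, nat_lit 3], [nat_lit 2, nat_lit 3, nat_lit 2, nat_lit 3], [nat_lit 0, nat_lit 3, nat_lit 2, nat_lit 0, nat_lit 3, nat_lit 2, nat_lit 0, nat_lit 3, nat_lit 2], [nat_lit 0, nat_lit 4, nat_lit 0, nat_lit 4, nat_lit 0, nat_lit 4], [nat_lit 0, nat_lit 2, nat_lit 4, nat_lit 0, nat_lit 2, nat_lit 4, nat_lit 0, nat_lit 2, nat_lit 4], [nat_lit 0, nat_lit 4, nat_lit 2, nat_lit 0, nat_lit 4, nat_lit 2, nat_lit 0, nat_lit 4, nat_lit 2], [nat_lit 4, nat_lit 2, nat_lit 1, nat_lit 3, nat_lit 4, nat_lit 2, nat_lit 1, nat_lit 3], [nat_lit 0, nat_lit 5, nat_lit 0, nat_lit 5], [nat_lit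 5, nat_lit 2, nat_lit 5, nat_lit 0, nat_lit 3, nat_lit 0, nat_lit 2, nat_lit 0], [nat_lit 5, nat_lit 4, nat_lit 0, nat_lit 5, nat_lit 3, nat_lit 1, nat_lit 4, nat_lit 5, nat_lit 1, nat_lit 3, nat_lit 1, nat_lit 4, nat_lit 0, nat_lit 3, nat_lit 0]]
def inv (i : ℕ) : ℕ := Nat.land (Nat.shiftRight (nat_lit 181889) (Nat.mul (nat_lit 3) i)) (nat_lit 7)
theorem ub2 {Γ : Type} [Group Γ] {g : ℕ → Γ} (h1 : InvOK g inv 6) (h2 : ∀ w ∈ rels, ev g w = 1) : CardLE (gen g 2) 3 :=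
  tw h1 h2 L1.closes (by decide +kernel) (cardLE_gen_zero g)
theorem ub4 {Γ : Type} [Group Γ] {g : ℕ → Γ} (h1 : InvOK g inv 6) (h2 : ∀ w ∈ rels, ev g w = 1) : CardLE (gen g 4) 48 :=
  tw h1 h2 L2.closes (by decide +kernel) (ub2 h1 h2)
theorem ub5 {Γ : Type} [Group Γ] {g : ℕ → Γ} (h1 : InvOK g inv 6) (h2 : ∀ w ∈ rels, ev g w = 1) : CardLE (gen g 5) 960 :=
  tw h1 h2 L3.closes (by decide +kernel) (ub4 h1 h2)
theorem ub6 {Γ : Type} [Group Γ] {g : ℕ → Γ} (h1 : InvOK g inv 6) (h2 : ∀ w ∈ rels, ev g w = 1) : CardLE (gen g 6) 20160 :=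
  tw h1 h2 L4.closes (by decide +kernel) (ub5 h1 h2)

end Cfsg.Agent.Ct.L34
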