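import Cfsg.Agent.Lib.Cert.L34.M
import Cfsg.Agent.Lib.Cert.Lin3
import Cfsg.Agent.S0243

set_option autoImplicit false
set_option maxRecDepth 100000

namespace Cfsg.Agent.Ct.L34

open Cfsg.Agent.PC

open Cfsg.Agent.Fi Cfsg.Agent.Ct
def Ct1 : TN := (TN.node (TN.node (TN.node (TN.node (TN.leaf (nat_lit 0x1000000010000000000000001)) (TN.leaf (nat_lit 0x10000000100000001000000010000000000000001))) (TN.node (TN.leaf (nat_lit 0x100000001000000000000000100000000)) (TN.leaf (nat_lit 0x100000001)))) (TN.node (TN.node (TN.leaf (nat_lit 0x10000000100000000)) (TN.leaf (nat_lit 0x100000000000000000000000000000000))) (TN.node (TN.leaf (nat_lit 1)) (TN.leaf (nat_lit 0x10000000100000000000000000000000000000001))))) (TN.node (TN.node (TN.node (TN.leaf (nat_lit 0x100000001000000010000000000000000)) (TN.leaf (nat_lit 1))) (TN.node (TN.leaf (nat_lit 0x100000000000000000000000100000000)) (TN.leaf (nat_lit 0x10000000100000000000000000000000000000000)))) (TN.node (TN.node (TN.leaf (nat_lit 0x1000000000000000100000001))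 (TN.leaf (nat_lit 0x1000000000000000000000000))) (TN.leaf (nat_lit 0x100000000000000010000000100000001)))))
def Ct2 : TN := (TN.node (TN.node (TN.node (TN.node (TN.leaf (nat_lit 0x100000000)) (TN.leaf (nat_lit 0x100000000000000000000000000000000))) (TN.node (TN.leaf (nat_lit 0x100000001000000010000000000000001)) (TN.leaf (nat_lit 0x1000000010000000000000000)))) (TN.node (TN.node (TN.leaf (nat_lit 0x100000001000000010000000000000001)) (TN.leaf (nat_lit 0x100000000))) (TN.node (TN.leaf (nat_lit 0x10000000000000000)) (TN.leaf (nat_lit 0x100000001000000000000000000000001))))) (TN.node (TN.node (TN.node (TN.leaf (nat_lit 0x1000000010000000000000000)) (TN.leaf (nat_lit 0x10000000000000000))) (TN.node (TN.leaf (nat_lit 0x10000000000000001000000010000000100000000)) (TN.leaf (nat_lit 0x10000000100000001000000000000000100000001)))) (TN.node (TN.node (TN.leaf (nat_lit 0x1000000010000000100000000)) (TN.leaf (nat_lit 0x10000000000000000000000000000000000000000))) (TN.leaf (nat_lit 0x100000001000000010000000100000001)))))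
def Ct3 : TN := (TN.node Ct1 Ct2)
def Ct4 : TN := (TN.node (TN.node (TN.node (TN.node (TN.leaf (nat_lit 0x10000000100000000)) (TN.leaf (nat_lit 0x100000000000000010000000100000000))) (TN.node (TN.leaf (nat_lit 0x10000000000000001000000010000000100000001)) (TN.leaf (nat_lit 1)))) (TN.node (TN.node (TN.leaf (nat_lit 0x1000000000000000100000001)) (TN.leaf (nat_lit 0x10000000000000000000000000000000000000000))) (TN.node (TN.leaf (nat_lit 0x100000000)) (TN.leaf (nat_lit 0x100000000000000000000000100000000))))) (TN.node (TN.node (TN.node (TN.leaf (nat_lit 0x10000000000000000000000010000000000000000)) (TN.leaf (nat_lit 0x100000000))) (TN.node (TN.leaf (nat_lit 0x10000000000000000000000000000000100000001)) (TN.leaf (nat_lit 0x100000000000000000000000000000000)))) (TN.node (TN.node (TN.leaf (nat_lit 0x1000000010000000000000001)) (TN.leaf (nat_lit 0x1000000010000000000000000))) (TN.leaf (nat_lit 0x10000000000000001000000000000000000000001)))))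
def Ct5 : TN := (TN.node (TN.node (TN.node (TN.node (TN.leaf (nat_lit 0x100000001)) (TN.leaf (nat_lit 0x10000000000000000000000000000000000000000))) (TN.node (TN.leaf (nat_lit 0x10000000000000000000000010000000100000000)) (TN.leaf (nat_lit 0x10000000000000000)))) (TN.node (TN.node (TN.leaf (nat_lit 0x10000000000000000000000010000000100000000)) (TN.leaf (nat_lit 0x100000001))) (TN.node (TN.leaf (nat_lit 0x1000000000000000000000000)) (TN.leaf (nat_lit 0x10000000000000001000000010000000100000000))))) (TN.node (TN.node (TN.node (TN.leaf (nat_lit 0x10000000000000000)) (TN.leaf (nat_lit 0x1000000000000000000000000))) (TN.node (TN.leaf (nat_lit 0x10000000100000000000000010000000100000001)) (TN.leaf (nat_lit 0x100000001000000010000000000000001)))) (TN.node (TN.node (TN.leaf (nat_lit 0x10000000100000001)) (TN.leaf (nat_lit 0x10000000100000000000000000000000000000000))) (TN.leaf (nat_lit 0x10000000000000000000000010000000000000001)))))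
def Ct6 : TN := (TN.node Ct4 Ct5)
def Ct : TN := (TN.node Ct3 Ct6)
noncomputable def C (j i : ℕ) : ℕ := TN.get Ct (Nat.add (Nat.mul j (nat_lit 6)) i)
def ix : Fin 3 → ℕ := Fin.val
noncomputable def M (j : ℕ) : Matrix (Fin 3) (Fin 3) K4 := mx ix (kel 2) 2 (C j)
def nv (i : ℕ) : ℕ := Nat.land (Nat.shiftRight (nat_lit 0x549201) (Nat.mul (nat_lit 4) i)) (nat_lit 15)
def ws : List (List ℕ × ℕ) := [([nat_lit 0, nat_lit 0, nat_lit 0], (nat_lit 6)), ([nat_lit 0, nat_lit 2, nat_lit 0, nat_lit 2, nat_lit 0, nat_lit 2], (nat_lit 6)), ([nat_lit 0, nat_lit 3, nat_lit 0, nat_lit 3, nat_lit 0, nat_lit 3], (nat_lit 6)), ([nat_lit 2, nat_lit 3, nat_lit 2, nat_lit 3], (nat_lit 7)), ([nat_lit 0, nat_lit 3, nat_lit 2, nat_lit 0, nat_lit 3, nat_lit 2, nat_lit 0, nat_lit 3, nat_lit 2], (nat_lit 6)), ([nat_lit 0, nat_lit 4, nat_lit 0, nat_lit 4, nat_lit 0, nat_lit 4], (nat_lit 6)), ([nat_lit 0, nat_lit 2, nat_lit 4, nat_lit 0, nat_lit 2, nat_lit 4, nat_lit 0, nat_lit 2, nat_lit 4], (nat_lit 6)), ([nat_lit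 0, nat_lit 4, nat_lit 2, nat_lit 0, nat_lit 4, nat_lit 2, nat_lit 0, nat_lit 4, nat_lit 2], (nat_lit 6)), ([nat_lit 4, nat_lit 2, nat_lit 1, nat_lit 3, nat_lit 4, nat_lit 2, nat_lit 1, nat_lit 3], (nat_lit 6)), ([nat_lit 0, nat_lit 5, nat_lit 0, nat_lit 5], (nat_lit 8)), ([nat_lit 5, nat_lit 2, nat_lit 5, nat_lit 0, nat_lit 3, nat_lit 0, nat_lit 2, nat_lit 0], (nat_lit 8)), ([nat_lit 5, nat_lit 4, nat_lit 0, nat_lit 5, nat_lit 3, nat_lit 1, nat_lit 4, nat_lit 5, nat_lit 1, nat_lit 3, nat_lit 1, nat_lit 4, nat_lit 0, nat_lit 3, nat_lit 0], (nat_lit 6)), ([nat_lit 0, nat_lit 1], (nat_lit 6)), ([nat_lit 1, nat_lit 0], (nat_lit 6)), ([nat_lit 2, nat_lit 2], (nat_lit 6)), ([nat_lit 3, nat_lit 3], (nat_lit 7)), ([nat_lit 4, nat_lit 4], (nat_lit 6)), ([nat_lit 5, nat_lit 5], (nat_lit 6))]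
theorem lm : Lm ix (kel 2) 2 2 3 M C 10 := ⟨by decide +kernel, by decide +kernel, by decide +kernel, by decide +kernel⟩
theorem hw : allE (fun w => Nat.add (Nat.add (lettE 6 w.1) (Nat.add (ltE w.2 9) (Nat.sub 6 w.2))) (eqL 2 2 3 10 C w.1 [w.2])) ws = 0 := by decide +kernel
theorem pq : Pr al inv rels 6 := ⟨simple, ctr, top, ub, iv, rl, by decide +kernel⟩
theorem iso {F : Type*} [Field F] [Fintype F] (hF : Fintype.card F = 4) : Nonempty (P ≃* Matrix.ProjectiveSpecialLinearGroup (Fin 3) F) := by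
  obtain ⟨f⟩ := exK (K := K4) rfl hF
  refine iso_card (lm.emb f pq (lm.let f (n := nv) (by decide +kernel) fun j hj => fun _ _ => Subgroup.mem_top _) 0 (by decide +kernel) hw 0 5 0 1 (by decide +kernel) slU_inj le_sl) card ?_
  have := S0243.result hF 3 (by decide)
  norm_num [Fin.prod_univ_succ, Finset.prod_range_succ, Nat.even_iff] at this
  omega

end Cfsg.Agent.Ct.L34
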